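import Cfsg.Agent.H994.KE.EData

/-!
# `E₈(q)`, `q` of order 3, 4, 6 modulo `p` (S4822, KE5; helper994): the bound
-/

set_option autoImplicit false
set_option linter.unusedSectionVars false
set_option maxRecDepth 10000

namespace Cfsg.Agent.H994.KE

open CoxeterSystem Cfsg Cfsg.Lie Cfsg.Lie.ChevalleyDatum Subgroup
open Cfsg.Agent.ChevalleyStructure Cfsg.Agent.ChevalleyStructure.Elts Cfsg.Agent.ChevalleyStructure.CoxeterGeom
  Cfsg.Agent.ChevalleyStructure.CoxeterGeomTypes Cfsg.Agent.ChevalleyStructure.NPerm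
open Cfsg.Agent.Tits.Roots Cfsg.Agent.Tits.Core Cfsg.Agent.Nodes Cfsg.Agent.Nodes.Reps Cfsg.Agent.Nodes.BNOf
  Cfsg.Agent.Nodes.RGDChev Cfsg.Agent.Nodes.Bruhat
open Cfsg.Agent.H129.TorusChar Cfsg.Agent.H129.WData Cfsg.Agent.H210.EL Cfsg.Agent.H440.TD4
open Cfsg.Agent.H508.KB

universe u v

section group

variable {p : ℕ} [hpp : Fact p.Prime] {Mx : Ideal AlgInt}

/-- **one line** -/
theorem kB_one {S : Type u} [Group S] [Finite S] (hM : IsPModular p Mx) {x : S} (hx : orderOf x = p)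
    {e : ℕ} (he : 0 < e)
    (hfus : ∀ (g : S) (i : ℕ), g * x * g⁻¹ = x ^ i → (i : ZMod p) ^ e = 1) {b : ℕ}
    (hb : b ≤ blockRank p (principalBlock Mx ↥(centralizer ({x} : Set S)))) :
    (p - 1) / e * b + blockRank p (principalBlock Mx S) ≤ kB Mx S := by
  classical
  obtain ⟨R, hR1, hR2, hR3⟩ := exists_reps hx he hfus
  have h1R : (1 : S) ∉ R := by
    intro h
    obtain ⟨a, ha, hax⟩ := hR1 1 h
    apply ha
    rw [ZMod.natCast_eq_zero_iff, ← hx]
    exact orderOf_dvd_of_pow_eq_one hax.symm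
  have key := Cfsg.Agent.H296.KB.sum_le_kB (p := p) hM (insert 1 R) ?_ ?_
  · rw [Finset.sum_insert h1R] at key
    have h3 : blockRank p (principalBlock Mx ↥(Subgroup.centralizer ({(1 : S)} : Set S))) =
        blockRank p (principalBlock Mx S) := by
      rw [← Cfsg.Agent.H634.Cols.finrank_secMap_principal hM (x := (1 : S)) ⟨0, by rw [orderOf_one, pow_zero]⟩,
        Cfsg.Agent.H634.Cols.finrank_secMap_one]
    have h4 : R.card * b ≤ ∑ y ∈ R, blockRank p (principalBlock Mx ↥(centralizer ({y} : Set S))) := by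
      rw [← smul_eq_mul]
      refine Finset.card_nsmul_le_sum _ _ _ fun y hy => ?_
      obtain ⟨a, ha, rfl⟩ := hR1 y hy
      rw [centralizer_pow hx ha]
      exact hb
    have h6 := Nat.mul_le_mul_right b hR3
    rw [h3] at key
    omega
  · intro y hy
    rcases Finset.mem_insert.1 hy with rfl | hy
    · exact ⟨0, by rw [orderOf_one, pow_zero]⟩
    · obtain ⟨a, ha, rfl⟩ := hR1 y hy
      refine ⟨1, ?_⟩
      rw [pow_one, Nat.Coprime.orderOf_pow, hx]
      rw [hx]
      exact ((Nat.Prime.coprime_iff_not_dvd hpp.out).2 fun h => ha ((ZMod.natCast_eq_zero_iff _ _).2 h))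
  · intro y hy z hz hyz
    rcases Finset.mem_insert.1 hy with rfl | hy
    · exact (isConj_one_right.1 hyz).symm
    · rcases Finset.mem_insert.1 hz with rfl | hz
      · exact isConj_one_left.1 hyz
      · exact hR2 y hy z hz hyz

end group

section model

variable {D : ChevalleyDatum} {l : ℕ} {M : CoxeterMatrix (Fin l)} {hp : IsType D l M} {p : ℕ} [hpp : Fact p.Prime]
  {Q : ℕ} {g : (Fin l → ℤ) ≃+ (Fin l → ℤ)} {w : M.Group} {G : Type u} [Group G] {X : (Fin l → ZMod p) → G}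
  (H : Model hp p Q g w X)

include H in
/-- **the group itself** -/
theorem rank_group [Finite G] {Mx : Ideal AlgInt} (hM : IsPModular p Mx) {y : Fin l → ZMod p}
    (hy : y ∈ Lam hp p Q g w) (hy0 : y ≠ 0) {v : M.Group}
    (hv : ∀ x, rep M.toCoxeterSystem hp.isCartan v (rep M.toCoxeterSystem hp.isCartan w (g x)) =
      rep M.toCoxeterSystem hp.isCartan w (g (rep M.toCoxeterSystem hp.isCartan v x)))
    {t : ZMod p} (ht0 : t ≠ 0) (ht : t ≠ 1)
    (hvy : ∀ x, lam y (rep M.toCoxeterSystem hp.isCartan v x) = t * lam y x) :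
    2 ≤ blockRank p (principalBlock Mx G) := by
  obtain ⟨m, hm⟩ := H.act v hv
  have h2 : m * X y * m⁻¹ = X (t⁻¹ • y) := hm y hy _ (smul_mem hy _) fun x => by
    rw [lam_smul', hvy, ← mul_assoc, inv_mul_cancel₀ ht0, one_mul]
  have h3 : m * X y * m⁻¹ = X y ^ (t⁻¹).val := by
    rw [h2, X_pow H hy, ZMod.natCast_zmod_val]
  refine two_le_rank_of_eig hM (m := m) (y := X y) (k := (t⁻¹).val) (orderOf_X H hy hy0) h3 ?_
  rw [ZMod.natCast_zmod_val]
  intro h4
  exact ht (inv_eq_one.1 h4)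

end model

section comm

variable {D : ChevalleyDatum} {l : ℕ} {M : CoxeterMatrix (Fin l)} (hp : IsType D l M)

/-- commuting elements of the Weyl group from a check of matrices -/
theorem rep_comm {A : Mat l} (hA : ∀ i j, A i j = cartanOf D l i j)
    {Cw Cv : List (Fin l × Mat l)} (hw : ChainOK A Cw) (hv : ChainOK A Cv) (hc : CommOK (hd Cv) (hd Cw))
    (x : Fin l → ℤ) :
    rep M.toCoxeterSystem hp.isCartan (M.toCoxeterSystem.wordProd (Cv.map Prod.fst))
      (rep M.toCoxeterSystem hp.isCartan (M.toCoxeterSystem.wordProd (Cw.map Prod.fst)) x) =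
    rep M.toCoxeterSystem hp.isCartan (M.toCoxeterSystem.wordProd (Cw.map Prod.fst))
      (rep M.toCoxeterSystem hp.isCartan (M.toCoxeterSystem.wordProd (Cv.map Prod.fst)) x) := by
  have hwr := chain_rep hp M.toCoxeterSystem hA hw
  have hvr := chain_rep hp M.toCoxeterSystem hA hv
  set w : M.Group := M.toCoxeterSystem.wordProd (Cw.map Prod.fst) with hwdef
  set v : M.Group := M.toCoxeterSystem.wordProd (Cv.map Prod.fst) with hvdef
  have h1 := ext_sr ((rep M.toCoxeterSystem hp.isCartan v).toAddMonoidHom.comp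
      (rep M.toCoxeterSystem hp.isCartan w).toAddMonoidHom)
    ((rep M.toCoxeterSystem hp.isCartan w).toAddMonoidHom.comp
      (rep M.toCoxeterSystem hp.isCartan v).toAddMonoidHom) (fun j => by
        show rep M.toCoxeterSystem hp.isCartan v (rep M.toCoxeterSystem hp.isCartan w (sr j)) =
          rep M.toCoxeterSystem hp.isCartan w (rep M.toCoxeterSystem hp.isCartan v (sr j))
        funext m
        rw [H795.TorsData.rep_of_sr hp M.toCoxeterSystem hvr, H795.TorsData.rep_of_sr hp M.toCoxeterSystem hwr,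
          hwr, hvr]
        exact (hc j m).symm) x
  exact h1

theorem comm_refl {w v : M.Group}
    (h : ∀ x, rep M.toCoxeterSystem hp.isCartan v (rep M.toCoxeterSystem hp.isCartan w x) =
      rep M.toCoxeterSystem hp.isCartan w (rep M.toCoxeterSystem hp.isCartan v x)) (x : Fin l → ℤ) :
    rep M.toCoxeterSystem hp.isCartan v (rep M.toCoxeterSystem hp.isCartan w (AddEquiv.refl (Fin l → ℤ) x)) =
      rep M.toCoxeterSystem hp.isCartan w (AddEquiv.refl (Fin l → ℤ) (rep M.toCoxeterSystem hp.isCartan v x)) := h x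

theorem mem_Lam {p Q : ℕ} {w : M.Group} {c : Fin l → ZMod p}
    (h : ∀ x, lam c (rep M.toCoxeterSystem hp.isCartan w x) = (Q : ZMod p) * lam c x) :
    c ∈ Lam hp p Q (AddEquiv.refl (Fin l → ℤ)) w := fun x => h x

end comm

namespace E8

variable {p : ℕ} [hpp : Fact p.Prime]

theorem eig_of {W : Mat 8} {u s : ZMod p} {V U V' U' : Fin 8 → ℤ} (h : Act W V V' ∧ Act W U U')
    (hs : ∀ j, (V' j : ZMod p) + u * (U' j : ZMod p) = s * ((V j : ZMod p) + u * (U j : ZMod p))) :
    EigOK W s (fl u V U) := by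
  intro j
  show ∑ n, (W j n : ZMod p) * ((V n : ZMod p) + u * (U n : ZMod p)) = s * ((V j : ZMod p) + u * (U j : ZMod p))
  rw [← hs j, ← h.1 j, ← h.2 j, Int.cast_sum, Int.cast_sum, Finset.mul_sum, ← Finset.sum_add_distrib]
  refine Finset.sum_congr rfl fun n _ => ?_
  rw [Int.cast_mul, Int.cast_mul]
  ring

theorem eig6 {W : Mat 8} {u : ZMod p} (hu : u ^ 2 = u - 1) {V U : Fin 8 → ℤ}
    (h : Act W V (-U) ∧ Act W U (V + U)) : EigOK W u (fl u V U) := by
  refine eig_of h fun j => ?_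
  rw [Pi.neg_apply, Pi.add_apply]
  push_cast
  linear_combination (-(U j : ZMod p)) * hu

theorem eig4 {W : Mat 8} {u : ZMod p} (hu : u ^ 2 = -1) {V U : Fin 8 → ℤ}
    (h : Act W V (-U) ∧ Act W U V) : EigOK W u (fl u V U) := by
  refine eig_of h fun j => ?_
  rw [Pi.neg_apply]
  push_cast
  linear_combination (-(U j : ZMod p)) * hu

theorem sq_of_order6 {q : ZMod p} (h : orderOf q = 6) : q ^ 2 = q - 1 := by
  have h6 : q ^ 6 = 1 := by rw [← h]; exact pow_orderOf_eq_one q
  have h3 : q ^ 3 ≠ 1 := fun h1 => by have := orderOf_dvd_of_pow_eq_one h1; rw [h] at this; omega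
  have h2 : q ^ 2 ≠ 1 := fun h1 => by have := orderOf_dvd_of_pow_eq_one h1; rw [h] at this; omega
  have e1 : (q ^ 3 - 1) * (q ^ 3 + 1) = 0 := by linear_combination h6
  have e2 : q ^ 3 + 1 = 0 := by
    rcases mul_eq_zero.1 e1 with h' | h'
    · exact absurd (sub_eq_zero.1 h') h3
    · exact h'
  have e3 : (q + 1) * (q ^ 2 - q + 1) = 0 := by linear_combination e2
  rcases mul_eq_zero.1 e3 with h' | h'
  · exact absurd (by linear_combination (q - 1) * h') h2
  · linear_combination h'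

theorem sq_of_order4 {q : ZMod p} (h : orderOf q = 4) : q ^ 2 = -1 := by
  have h6 : q ^ 4 = 1 := by rw [← h]; exact pow_orderOf_eq_one q
  have h2 : q ^ 2 ≠ 1 := fun h1 => by have := orderOf_dvd_of_pow_eq_one h1; rw [h] at this; omega
  have e1 : (q ^ 2 - 1) * (q ^ 2 + 1) = 0 := by linear_combination h6
  rcases mul_eq_zero.1 e1 with h' | h'
  · exact absurd (sub_eq_zero.1 h') h2
  · exact eq_neg_of_add_eq_zero_left h'

theorem sq_of_order3 {q : ZMod p} (h : orderOf q = 3) : (-q ^ 2) ^ 2 = -q ^ 2 - 1 ∧ (-q ^ 2) ^ 2 = q := by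
  have h6 : q ^ 3 = 1 := by rw [← h]; exact pow_orderOf_eq_one q
  have h2 : q ≠ 1 := fun h1 => by rw [h1, orderOf_one] at h; omega
  have e1 : (q - 1) * (q ^ 2 + q + 1) = 0 := by linear_combination h6
  rcases mul_eq_zero.1 e1 with h' | h'
  · exact absurd (sub_eq_zero.1 h') h2
  · exact ⟨by linear_combination q * h6 + h', by linear_combination q * h6⟩

theorem ne_zero_of6 {u : ZMod p} (hu : u ^ 2 = u - 1) : u ≠ 0 := by
  rintro rfl
  have : (1 : ZMod p) = 0 := by linear_combination hu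
  exact one_ne_zero this

theorem natCast_ne {n : ℕ} (h0 : 0 < n) (h : n < p) : (n : ZMod p) ≠ 0 := fun h1 => by
  have := Nat.le_of_dvd h0 ((ZMod.natCast_eq_zero_iff _ _).1 h1)
  omega

theorem order_of6 (hp : 3 < p) {u : ZMod p} (hu : u ^ 2 = u - 1) : orderOf u = 6 := by
  have h3 : u ^ 3 = -1 := by linear_combination (u + 1) * hu
  have h2p := natCast_ne (n := 2) (by norm_num) (by omega : 2 < p)
  have h3p := natCast_ne (n := 3) (by norm_num) (by omega : 3 < p)
  push_cast at h2p h3p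
  refine orderOf_eq_of_pow_and_pow_div_prime (by norm_num) (by linear_combination (u ^ 3 - 1) * h3) ?_
  intro q hq hq6
  have : q = 2 ∨ q = 3 := by
    have h1 : q ≤ 6 := Nat.le_of_dvd (by norm_num) hq6
    interval_cases q <;> first | (exfalso; revert hq; decide) | omega
  rcases this with rfl | rfl
  · show u ^ 3 ≠ 1
    rw [h3]
    intro h
    exact h2p (by linear_combination -h)
  · show u ^ 2 ≠ 1
    intro h
    have hu2 : u = 2 := by linear_combination h - hu
    rw [hu2] at h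
    exact h3p (by linear_combination h)


/-- a functional with a nonzero value is nonzero -/
theorem fl_ne {u : ZMod p} {V U : Fin 8 → ℤ} (n : Fin 8) (h : (V n : ZMod p) + u * (U n : ZMod p) ≠ 0) :
    fl u V U ≠ 0 := fun h0 => h (by
  have := congrFun h0 n
  exact this)

section core

variable {M : CoxeterMatrix (Fin 8)} (hp : IsType chevE8 8 M) {F : Type u} [Field F] [Fintype F]
  {Mx : Ideal AlgInt}

/-- the element of the Weyl group of a chain -/
abbrev wd (M : CoxeterMatrix (Fin 8)) (C : List (Fin 8 × Mat 8)) : M.Group := M.toCoxeterSystem.wordProd (C.map Prod.fst)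

include hp in
/-- **`q` of order 3 or 6** -/
theorem core6 (hM : IsPModular p Mx) (hp5 : 5 < p) (hpF : (p : F) ≠ 0) {u : ZMod p} (hu : u ^ 2 = u - 1) {w : M.Group}
    (hw : ∀ c : Fin 8 → ZMod p, (∀ x, lam c (rep M.toCoxeterSystem hp.isCartan (wd M cw6) x) = u * lam c x) →
      c ∈ Lam hp p (Fintype.card F) (AddEquiv.refl _) w)
    (hvw : ∀ x, rep M.toCoxeterSystem hp.isCartan (wd M cv6) (rep M.toCoxeterSystem hp.isCartan w x) =
      rep M.toCoxeterSystem hp.isCartan w (rep M.toCoxeterSystem hp.isCartan (wd M cv6) x))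
    (hmu : ∀ c ∈ Lam hp p (Fintype.card F) (AddEquiv.refl _) w, ∀ v, mu chevE8 8 c (u * v) = mu chevE8 8 c v)
    (n1 : 72 ≤ (Finset.univ.filter fun r : Fin chevE8.nroots => pr chevE8 8 V1 U1 r = (0, 0)).card)
    (m1 : 27 ≤ (Finset.univ.filter fun r : Fin chevE8.nroots => pr chevE8 8 V1 U1 r = (1, 0)).card)
    (n2 : (Finset.univ.filter fun r : Fin chevE8.nroots => pr chevE8 8 V2 U2 r = (0, 0)).card = 30)
    (m2 : 24 ≤ (Finset.univ.filter fun r : Fin chevE8.nroots => pr chevE8 8 V2 U2 r = (1, 0)).card)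
    (norm2 : ∀ r : Fin chevE8.nroots, (pr chevE8 8 V2 U2 r = (0, 0)) ∨
      (1 ≤ (pr chevE8 8 V2 U2 r).1 ^ 2 + (pr chevE8 8 V2 U2 r).1 * (pr chevE8 8 V2 U2 r).2 + (pr chevE8 8 V2 U2 r).2 ^ 2 ∧
      (pr chevE8 8 V2 U2 r).1 ^ 2 + (pr chevE8 8 V2 U2 r).1 * (pr chevE8 8 V2 U2 r).2 + (pr chevE8 8 V2 U2 r).2 ^ 2 ≤ 4)) :
    p + 3 ≤ 2 * kB Mx ↥(chevE8.group F) := by
  classical
  obtain ⟨X, H⟩ := exists_model hp hpF invC_E8 w
  have hrep6 : ∀ j, rep M.toCoxeterSystem hp.isCartan (wd M cw6) (sr j) = W6 j :=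
    chain_rep hp M.toCoxeterSystem hA cw6_ok
  have hrepv : ∀ j, rep M.toCoxeterSystem hp.isCartan (wd M cv6) (sr j) = T6 j :=
    chain_rep hp M.toCoxeterSystem hA cv6_ok
  have h1L := hw _ (lam_rep hp hrep6 (eig6 hu w1))
  have h2L := hw _ (lam_rep hp hrep6 (eig6 hu w2))
  have h3L := hw _ (lam_rep hp hrep6 (eig6 hu w3))
  have hu0 := ne_zero_of6 hu
  have hord := order_of6 (p := p) (by omega) hu
  have hu1 : (1 : ZMod p) - u ≠ 0 := by
    intro h
    have h1 : u = 1 := by linear_combination -h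
    rw [h1, orderOf_one] at hord
    omega
  -- the functionals are not zero
  have hc1 : fl u V1 U1 ≠ 0 := fl_ne 1 (by
    show (((1 : ℤ) : ZMod p) + u * ((0 : ℤ) : ZMod p)) ≠ 0
    rw [Int.cast_one, Int.cast_zero, mul_zero, add_zero]
    exact one_ne_zero)
  have hc2 : fl u V2 U2 ≠ 0 := fl_ne 5 (by
    show (((1 : ℤ) : ZMod p) + u * ((-1 : ℤ) : ZMod p)) ≠ 0
    rw [Int.cast_one, Int.cast_neg, Int.cast_one]
    intro h
    exact hu1 (by linear_combination h))
  have hc3 : fl u V3 U3 ≠ 0 := fl_ne 1 (by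
    show (((1 : ℤ) : ZMod p) + u * ((-1 : ℤ) : ZMod p)) ≠ 0
    rw [Int.cast_one, Int.cast_neg, Int.cast_one]
    intro h
    exact hu1 (by linear_combination h))
  -- the action of `v`
  have e1 : ∀ x, lam (fl u V1 U1) (rep M.toCoxeterSystem hp.isCartan (wd M cv6) x) = lam (fl u V1 U1) x := fun x => by
    rw [lam_rep hp hrepv (s := 1) (eig_of v1 fun j => by rw [one_mul]), one_mul]
  have e2 : ∀ x, lam (fl u V2 U2) (rep M.toCoxeterSystem hp.isCartan (wd M cv6) x) = lam (fl u V2 U2) x := fun x => by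
    rw [lam_rep hp hrepv (s := 1) (eig_of v2 fun j => by rw [one_mul]), one_mul]
  have e3 : ∀ x, lam (fl u V3 U3) (rep M.toCoxeterSystem hp.isCartan (wd M cv6) x) = u ^ 2 * lam (fl u V3 U3) x :=
    lam_rep hp hrepv (eig_of v3 fun j => by
      rw [Pi.sub_apply, Pi.neg_apply]
      push_cast
      linear_combination (-(V3 j : ZMod p) - (u + 1) * (U3 j : ZMod p)) * hu)
  have ht0 : u ^ 2 ≠ 0 := pow_ne_zero _ hu0
  have ht1 : u ^ 2 ≠ 1 := fun h => by
    have := orderOf_dvd_of_pow_eq_one h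
    rw [hord] at this
    omega
  -- multiplicities
  have hv1 : ∀ V U : Fin 8 → ℤ, ∀ m, m ≤ (Finset.univ.filter fun r : Fin chevE8.nroots => pr chevE8 8 V U r = (1, 0)).card →
      m ≤ mu chevE8 8 (fl u V U) 1 := by
    intro V U m h
    have := le_mu chevE8 u V U 1 0 h
    rwa [Int.cast_one, Int.cast_zero, mul_zero, add_zero] at this
  have hv0 : ∀ V U : Fin 8 → ℤ, ∀ m, m ≤ (Finset.univ.filter fun r : Fin chevE8.nroots => pr chevE8 8 V U r = (0, 0)).card →
      m ≤ mu chevE8 8 (fl u V U) 0 := by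
    intro V U m h
    have := le_mu chevE8 u V U 0 0 h
    rwa [Int.cast_zero, mul_zero, add_zero] at this
  have hne : mu chevE8 8 (fl u V1 U1) 0 ≠ mu chevE8 8 (fl u V2 U2) 0 := by
    have h1 := hv0 _ _ _ n1
    have h2 : mu chevE8 8 (fl u V2 U2) 0 ≤ 30 := by
      rw [← n2]
      refine Finset.card_le_card fun r hr => ?_
      rw [Finset.mem_filter] at hr ⊢
      refine ⟨hr.1, ?_⟩
      rcases norm2 r with h | ⟨h, h'⟩
      · exact h
      · exfalso
        have h3 := hr.2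
        rw [rv_fl] at h3
        have h4 := norm6 hu h3
        rw [ZMod.intCast_zmod_eq_zero_iff_dvd] at h4
        have h5 := Int.le_of_dvd (by omega) h4
        omega
    omega
  have hN : chevE8.nroots = 240 := by decide +kernel
  have f1 := fus_bound H h1L hc1 hu0 hord (hmu _ h1L) one_ne_zero (hv1 _ _ _ m1) (hv0 _ _ _ n1) (by rw [hN]; norm_num)
  have f2 := fus_bound H h2L hc2 hu0 hord (hmu _ h2L) one_ne_zero (hv1 _ _ _ m2) (hv0 _ _ _ n2.ge) (by rw [hN]; norm_num)
  have r1 := rank_centralizer H hM h1L h3L hc3 hvw e1 ht0 ht1 e3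
  have r2 := rank_centralizer H hM h2L h3L hc3 hvw e2 ht0 ht1 e3
  have r3 := rank_group H hM h3L hc3 hvw ht0 ht1 e3
  have key := kB_two hM (orderOf_X H h1L hc1) (orderOf_X H h2L hc2) (e := 6) (e' := 6) (by norm_num) (by norm_num)
    f1 f2 (not_conj H h1L h2L hc1 hne) r1 r2
  have h6 : 6 ∣ p - 1 := by
    rw [← hord]
    exact ZMod.orderOf_dvd_card_sub_one hu0
  omega

include hp in
/-- **`q` of order 4** -/
theorem core4 (hM : IsPModular p Mx) (hp5 : 5 < p) (hpF : (p : F) ≠ 0) (hord : orderOf (Fintype.card F : ZMod p) = 4)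
    {w : M.Group}
    (hw : ∀ c : Fin 8 → ZMod p, (∀ x, lam c (rep M.toCoxeterSystem hp.isCartan (wd M cw4) x) =
      (Fintype.card F : ZMod p) * lam c x) → c ∈ Lam hp p (Fintype.card F) (AddEquiv.refl _) w)
    (hvw : ∀ x, rep M.toCoxeterSystem hp.isCartan (wd M cv4) (rep M.toCoxeterSystem hp.isCartan w x) =
      rep M.toCoxeterSystem hp.isCartan w (rep M.toCoxeterSystem hp.isCartan (wd M cv4) x))
    (n4 : 60 ≤ (Finset.univ.filter fun r : Fin chevE8.nroots => pr chevE8 8 V4 U4 r = (0, 0)).card)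
    (m4 : 32 ≤ (Finset.univ.filter fun r : Fin chevE8.nroots => pr chevE8 8 V4 U4 r = (1, 0)).card) :
    p + 3 ≤ 2 * kB Mx ↥(chevE8.group F) := by
  classical
  have hu := sq_of_order4 hord
  set u : ZMod p := (Fintype.card F : ZMod p) with hudef
  obtain ⟨X, H⟩ := exists_model hp hpF invC_E8 w
  have hrep : ∀ j, rep M.toCoxeterSystem hp.isCartan (wd M cw4) (sr j) = W4 j :=
    chain_rep hp M.toCoxeterSystem hA cw4_ok
  have hrepv : ∀ j, rep M.toCoxeterSystem hp.isCartan (wd M cv4) (sr j) = T4 j :=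
    chain_rep hp M.toCoxeterSystem hA cv4_ok
  have h4L := hw _ (lam_rep hp hrep (eig4 hu w4))
  have h5L := hw _ (lam_rep hp hrep (eig4 hu w5))
  have hu0 : u ≠ 0 := by
    rintro h
    rw [h] at hu
    have : (1 : ZMod p) = 0 := by linear_combination hu
    exact one_ne_zero this
  have hc4 : fl u V4 U4 ≠ 0 := fl_ne 1 (by
    show (((-1 : ℤ) : ZMod p) + u * ((0 : ℤ) : ZMod p)) ≠ 0
    rw [Int.cast_neg, Int.cast_one, Int.cast_zero, mul_zero, add_zero]
    exact neg_ne_zero.2 one_ne_zero)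
  have hc5 : fl u V5 U5 ≠ 0 := fl_ne 6 (by
    show (((-1 : ℤ) : ZMod p) + u * ((0 : ℤ) : ZMod p)) ≠ 0
    rw [Int.cast_neg, Int.cast_one, Int.cast_zero, mul_zero, add_zero]
    exact neg_ne_zero.2 one_ne_zero)
  have e4 : ∀ x, lam (fl u V4 U4) (rep M.toCoxeterSystem hp.isCartan (wd M cv4) x) = lam (fl u V4 U4) x := fun x => by
    rw [lam_rep hp hrepv (s := 1) (eig_of v4 fun j => by rw [one_mul]), one_mul]
  have e5 : ∀ x, lam (fl u V5 U5) (rep M.toCoxeterSystem hp.isCartan (wd M cv4) x) = (-1) * lam (fl u V5 U5) x :=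
    lam_rep hp hrepv (eig_of v5 fun j => by
      rw [Pi.neg_apply, Pi.neg_apply]
      push_cast
      ring)
  have ht0 : (-1 : ZMod p) ≠ 0 := neg_ne_zero.2 one_ne_zero
  have ht1 : (-1 : ZMod p) ≠ 1 := fun h => by
    have h2 := natCast_ne (p := p) (n := 2) (by norm_num) (by omega)
    push_cast at h2
    exact h2 (by linear_combination -h)
  have hm : 32 ≤ mu chevE8 8 (fl u V4 U4) 1 := by
    have := le_mu chevE8 u V4 U4 1 0 m4
    rwa [Int.cast_one, Int.cast_zero, mul_zero, add_zero] at this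
  have hz : 60 ≤ mu chevE8 8 (fl u V4 U4) 0 := by
    have := le_mu chevE8 u V4 U4 0 0 n4
    rwa [Int.cast_zero, mul_zero, add_zero] at this
  have hN : chevE8.nroots = 240 := by decide +kernel
  have f1 := fus_bound H h4L hc4 hu0 hord (mu_q h4L hu0) one_ne_zero hm hz (by rw [hN]; norm_num)
  have r1 := rank_centralizer H hM h4L h5L hc5 hvw e4 ht0 ht1 e5
  have r3 := rank_group H hM h5L hc5 hvw ht0 ht1 e5
  have key := kB_one hM (orderOf_X H h4L hc4) (e := 4) (by norm_num) f1 r1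
  have h6 : 4 ∣ p - 1 := by
    rw [← hord]
    exact ZMod.orderOf_dvd_card_sub_one hu0
  omega

end core

end E8

end Cfsg.Agent.H994.KE
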