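import Cfsg.Agent.H440.TD4.Model

/-!
# Root values of elements of order `p` (S4822, KE5; helper994)

* `exists_perm` : an element of the Weyl group permutes the indices of the roots;
* `exists_model` : the torus model of `H440.TD4.Model` for an untwisted group `D.group F`;
* `pow_eq_one_of_mult` : the bound for the fusion of the powers of an element by the multiplicities of the root values;
* `lam_pair`, `norm6`, `norm4` : functionals of the shape `V + u U` with integral `V`, `U`.
-/

set_option autoImplicit false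
set_option linter.unusedSectionVars false

namespace Cfsg.Agent.H994.KE

open CoxeterSystem Cfsg Cfsg.Lie Cfsg.Lie.ChevalleyDatum
open Cfsg.Agent.ChevalleyStructure Cfsg.Agent.ChevalleyStructure.Elts Cfsg.Agent.ChevalleyStructure.CoxeterGeom
  Cfsg.Agent.ChevalleyStructure.CoxeterGeomTypes Cfsg.Agent.ChevalleyStructure.NPerm
open Cfsg.Agent.Tits.Roots Cfsg.Agent.Tits.Core Cfsg.Agent.Nodes Cfsg.Agent.Nodes.Reps Cfsg.Agent.Nodes.BNOf
  Cfsg.Agent.Nodes.RGDChev Cfsg.Agent.Nodes.Bruhat
open Cfsg.Agent.KFacts.RgdField Cfsg.Agent.KFacts.RgdChevCoord Cfsg.Agent.BpExc.TorCent Cfsg.Agent.BpExc.TorChev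
open Cfsg.Agent.GpExc.Field Cfsg.Agent.BpExc.Tow Cfsg.Agent.BpExc.TowChev Cfsg.Agent.BpExc.Fr
  Cfsg.Agent.BpExc.LangFr Cfsg.Agent.H795.SetCent Cfsg.Agent.H795.Toral Cfsg.Agent.H795.Core
  Cfsg.Agent.H795.RootConn Cfsg.Agent.H795.SetTor Cfsg.Agent.H129.TorusChar Cfsg.Agent.H129.TorusUntw
  Cfsg.Agent.H129.WData Cfsg.Agent.H795.Reduce Cfsg.Agent.H795.LangT
  Cfsg.Agent.BpExc Cfsg.Agent.H210.EL Cfsg.Agent.H440.TD4

universe u v

section roots

variable {D : ChevalleyDatum} {l : ℕ} {M : CoxeterMatrix (Fin l)} (hp : IsType D l M)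

theorem isRoot_rep' (w : M.Group) {x : Fin l → ℤ} (hx : IsRoot M.toCoxeterSystem hp.isCartan x) :
    IsRoot M.toCoxeterSystem hp.isCartan (rep M.toCoxeterSystem hp.isCartan w x) := by
  obtain ⟨u, i, rfl⟩ := hx
  exact ⟨w * u, i, by rw [rep_mul_apply]⟩

/-- the permutation of the indices of the roots -/
theorem exists_perm (w : M.Group) : ∃ π : Equiv.Perm (Fin D.nroots),
    ∀ r, vec D l (π r) = rep M.toCoxeterSystem hp.isCartan w (vec D l r) := by
  classical
  have h1 : ∀ (w : M.Group) (r : Fin D.nroots), ∃ s : Fin D.nroots,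
      vec D l s = rep M.toCoxeterSystem hp.isCartan w (vec D l r) := by
    intro w r
    obtain ⟨s, hs, e⟩ := (isRoot_iff hp M.toCoxeterSystem _).1
      (isRoot_rep' (hp := hp) w (isRoot_vec hp M.toCoxeterSystem r.2))
    exact ⟨⟨s, hs⟩, e⟩
  choose f hf using h1 w
  have hinj : Function.Injective f := by
    intro a b hab
    have h2 : rep M.toCoxeterSystem hp.isCartan w (vec D l a) = rep M.toCoxeterSystem hp.isCartan w (vec D l b) := by
      rw [← hf, ← hf, hab]
    have h3 := congrArg (rep M.toCoxeterSystem hp.isCartan w⁻¹) h2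
    rw [rep_inv_apply, rep_inv_apply] at h3
    exact Fin.ext (vec_inj hp a.2 b.2 h3)
  exact ⟨Equiv.ofBijective f (Finite.injective_iff_bijective.1 hinj), fun r => hf r⟩

/-- the root values -/
def rv {p : ℕ} (D : ChevalleyDatum) (l : ℕ) (c : Fin l → ZMod p) (r : Fin D.nroots) : ZMod p := lam c (vec D l r)

/-- the number of the roots with value `v` -/
def mu {p : ℕ} (D : ChevalleyDatum) (l : ℕ) (c : Fin l → ZMod p) (v : ZMod p) : ℕ :=
  (Finset.univ.filter fun r : Fin D.nroots => rv D l c r = v).card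

/-- conjugate functionals have the same multiplicities -/
theorem mu_eq {p : ℕ} {c c' : Fin l → ZMod p} {w : M.Group}
    (h : ∀ x, lam c' (rep M.toCoxeterSystem hp.isCartan w x) = lam c x) (v : ZMod p) :
    mu D l c v = mu D l c' v := by
  classical
  obtain ⟨π, hπ⟩ := exists_perm hp w
  unfold mu
  refine Finset.card_bij (fun r _ => π r) ?_ ?_ ?_
  · intro r hr
    rw [Finset.mem_filter] at hr ⊢
    refine ⟨Finset.mem_univ _, ?_⟩
    rw [← hr.2]
    unfold rv
    rw [hπ, h]
  · intro a _ b _ hab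
    exact π.injective hab
  · intro s hs
    rw [Finset.mem_filter] at hs
    refine ⟨π.symm s, ?_, π.apply_symm_apply s⟩
    rw [Finset.mem_filter]
    refine ⟨Finset.mem_univ _, ?_⟩
    rw [← hs.2]
    unfold rv
    rw [← h, ← hπ, π.apply_symm_apply]

theorem mu_smul {p : ℕ} [Fact p.Prime] (c : Fin l → ZMod p) {i : ZMod p} (hi : i ≠ 0) (v : ZMod p) :
    mu D l (i • c) (i * v) = mu D l c v := by
  unfold mu
  refine congrArg Finset.card (Finset.filter_congr fun r _ => ?_)
  unfold rv
  rw [lam_smul']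
  exact ⟨fun h => mul_left_cancel₀ hi h, fun h => by rw [h]⟩

end roots

section model

variable {D : ChevalleyDatum} {l : ℕ} {M : CoxeterMatrix (Fin l)} (hp : IsType D l M)

include hp in
/-- **The torus model of an untwisted group.** -/
theorem exists_model {F : Type u} [Field F] [Fintype F] {p : ℕ} [hpp : Fact p.Prime] (hpF : (p : F) ≠ 0)
    {B : Fin l → Fin l → ℤ} (hB : InvC D l 1 B) (w : M.Group) :
    ∃ X : (Fin l → ZMod p) → ↥(D.group F), Model hp p (Fintype.card F) (AddEquiv.refl (Fin l → ℤ)) w X := by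
  obtain ⟨r, e', hr, hrF, hrk, he', hq, hk⟩ := exists_closure (F := F) rfl
  have hpr : p ≠ r := by
    rintro rfl
    exact hpF (CharP.cast_eq_zero F p)
  let k := AlgebraicClosure F
  let f : F →+* k := algebraMap F (AlgebraicClosure F)
  have hσ : IsFrob r e' (phi D k r e') := isFrob_phi
  have F0 : Fr M.toCoxeterSystem hp.isCartan (TT D k) (XX D l k) (phi D k r e') (AddEquiv.refl (Fin l → ℤ)) :=
    fr_phi hp _
  rw [hq]
  exact Cfsg.Agent.H440.TD4.exists_model (k := k) hp hk hpr hB one_ne_zero he' hσ F0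
    (f := emb hp.inList f) (emb_injective hp.inList f)
    (fun y hy => fix_range hp M.toCoxeterSystem f hq hB one_ne_zero (fun a => ⟨a, pow_one a⟩) hy) w

end model

/-- **The bound for the fusion.** -/
theorem pow_eq_one_of_mult {p : ℕ} [hpp : Fact p.Prime] {N : ℕ} (f : Fin N → ZMod p) {i u : ZMod p} (hi : i ≠ 0)
    {e : ℕ} (hu0 : u ≠ 0) (hu : orderOf u = e)
    (hfi : ∀ v, (Finset.univ.filter fun r => f r = i * v).card = (Finset.univ.filter fun r => f r = v).card)
    (hfu : ∀ v, (Finset.univ.filter fun r => f r = u * v).card = (Finset.univ.filter fun r => f r = v).card)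
    {v0 : ZMod p} (hv0 : v0 ≠ 0) {m z : ℕ} (hm : m ≤ (Finset.univ.filter fun r => f r = v0).card)
    (hz : z ≤ (Finset.univ.filter fun r => f r = 0).card) (hN : N < z + 2 * e * m) : i ^ e = 1 := by
  classical
  by_contra hne
  -- powers of `u`
  have hfuk : ∀ k : ℕ, ∀ v, (Finset.univ.filter fun r => f r = u ^ k * v).card =
      (Finset.univ.filter fun r => f r = v).card := by
    intro k
    induction k with
    | zero => intro v; rw [pow_zero, one_mul]
    | succ k ih => intro v; rw [pow_succ', mul_assoc, hfu, ih]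
  have hue : u ^ e = 1 := by rw [← hu]; exact pow_orderOf_eq_one u
  let g : Fin 2 × Fin e → ZMod p := fun a => i ^ (a.1 : ℕ) * u ^ (a.2 : ℕ) * v0
  have hmul : ∀ a, m ≤ (Finset.univ.filter fun r => f r = g a).card := by
    rintro ⟨a, b⟩
    show m ≤ (Finset.univ.filter fun r => f r = i ^ (a : ℕ) * u ^ (b : ℕ) * v0).card
    fin_cases a
    · show m ≤ (Finset.univ.filter fun r => f r = i ^ 0 * u ^ (b : ℕ) * v0).card
      rw [pow_zero, one_mul, hfuk]
      exact hm
    · show m ≤ (Finset.univ.filter fun r => f r = i ^ 1 * u ^ (b : ℕ) * v0).card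
      rw [pow_one, mul_assoc, hfi, hfuk]
      exact hm
  have hpe : ∀ {x y : ZMod p}, x ≠ 0 → y ≠ 0 → x ^ e = 1 → y ^ e = 1 → i * x = y → False := by
    intro x y hx hy h1 h2 h3
    apply hne
    have h4 := congrArg (· ^ e) h3
    simp only [mul_pow] at h4
    rw [h1, h2, mul_one] at h4
    exact h4
  have hue' : ∀ k : ℕ, (u ^ k) ^ e = 1 := fun k => by rw [← pow_mul, mul_comm, pow_mul, hue, one_pow]
  have hginj : Function.Injective g := by
    rintro ⟨a, b⟩ ⟨a', b'⟩ h
    have h' : i ^ (a : ℕ) * u ^ (b : ℕ) = i ^ (a' : ℕ) * u ^ (b' : ℕ) := mul_right_cancel₀ hv0 h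
    have key : ∀ b b' : Fin e, u ^ (b : ℕ) = u ^ (b' : ℕ) → b = b' := by
      intro b b' h
      have hU : orderOf (Units.mk0 u hu0) = e := by rw [← orderOf_units]; exact hu
      have h4 : Units.mk0 u hu0 ^ (b : ℕ) = Units.mk0 u hu0 ^ (b' : ℕ) := Units.ext h
      have h5 := pow_inj_mod.1 h4
      rw [hU, Nat.mod_eq_of_lt b.2, Nat.mod_eq_of_lt b'.2] at h5
      exact Fin.ext h5
    fin_cases a <;> fin_cases a'
    · have h1 : u ^ (b : ℕ) = u ^ (b' : ℕ) := by simpa using h'
      rw [key _ _ h1]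
    · have h1 : u ^ (b : ℕ) = i * u ^ (b' : ℕ) := by simpa using h'
      exact (hpe (pow_ne_zero _ hu0) (pow_ne_zero _ hu0) (hue' _) (hue' _) h1.symm).elim
    · have h1 : i * u ^ (b : ℕ) = u ^ (b' : ℕ) := by simpa using h'
      exact (hpe (pow_ne_zero _ hu0) (pow_ne_zero _ hu0) (hue' _) (hue' _) h1).elim
    · have h1 : i * u ^ (b : ℕ) = i * u ^ (b' : ℕ) := by simpa using h'
      rw [key _ _ (mul_left_cancel₀ hi h1)]
  have hg0 : ∀ a, g a ≠ 0 := fun a => mul_ne_zero (mul_ne_zero (pow_ne_zero _ hi) (pow_ne_zero _ hu0)) hv0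
  let T : Finset (ZMod p) := Finset.univ.image g
  have hTc : T.card = 2 * e := by
    rw [Finset.card_image_of_injective _ hginj, Finset.card_univ, Fintype.card_prod, Fintype.card_fin, Fintype.card_fin]
  have h0T : (0 : ZMod p) ∉ T := by
    intro h
    obtain ⟨a, -, ha⟩ := Finset.mem_image.1 h
    exact hg0 a ha
  have hsum : T.card * m ≤ ∑ v ∈ T, (Finset.univ.filter fun r => f r = v).card := by
    rw [← smul_eq_mul]
    refine Finset.card_nsmul_le_sum _ _ _ fun v hv => ?_
    obtain ⟨a, -, rfl⟩ := Finset.mem_image.1 hv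
    exact hmul a
  have hins : ∑ v ∈ insert 0 T, (Finset.univ.filter fun r => f r = v).card ≤ N := by
    calc ∑ v ∈ insert 0 T, (Finset.univ.filter fun r => f r = v).card
        = ((insert 0 T).biUnion fun v => Finset.univ.filter fun r => f r = v).card := by
          rw [Finset.card_biUnion]
          intro x _ y _ hxy
          rw [Function.onFun, Finset.disjoint_left]
          intro r hr hr'
          rw [Finset.mem_filter] at hr hr'
          exact hxy (hr.2.symm.trans hr'.2)
      _ ≤ (Finset.univ : Finset (Fin N)).card := Finset.card_le_univ _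
      _ = N := by rw [Finset.card_univ, Fintype.card_fin]
  rw [Finset.sum_insert h0T] at hins
  rw [hTc] at hsum
  omega

section pair

variable {p l : ℕ}

/-- `V + u U` -/
def fl (u : ZMod p) (V U : Fin l → ℤ) : Fin l → ZMod p := fun n => (V n : ZMod p) + u * (U n : ZMod p)

theorem lam_fl (u : ZMod p) (V U x : Fin l → ℤ) :
    lam (fl u V U) x = ((∑ n, x n * V n : ℤ) : ZMod p) + u * ((∑ n, x n * U n : ℤ) : ZMod p) := by
  unfold lam fl
  rw [Int.cast_sum, Int.cast_sum, Finset.mul_sum, ← Finset.sum_add_distrib]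
  refine Finset.sum_congr rfl fun n _ => ?_
  rw [Int.cast_mul, Int.cast_mul]
  ring

/-- the pair of integers belonging to a root value -/
def pr (D : ChevalleyDatum) (l : ℕ) (V U : Fin l → ℤ) (r : Fin D.nroots) : ℤ × ℤ :=
  (∑ n : Fin l, vec D l r n * V n, ∑ n : Fin l, vec D l r n * U n)

theorem rv_fl (D : ChevalleyDatum) (u : ZMod p) (V U : Fin l → ℤ) (r : Fin D.nroots) :
    rv D l (fl u V U) r = ((pr D l V U r).1 : ZMod p) + u * ((pr D l V U r).2 : ZMod p) := by
  unfold rv
  rw [lam_fl]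
  rfl

/-- the number of the roots with a given pair is a lower bound for the multiplicity -/
theorem le_mu (D : ChevalleyDatum) (u : ZMod p) (V U : Fin l → ℤ) (a b : ℤ) {m : ℕ}
    (h : m ≤ (Finset.univ.filter fun r : Fin D.nroots => pr D l V U r = (a, b)).card) :
    m ≤ mu D l (fl u V U) ((a : ZMod p) + u * (b : ZMod p)) := by
  refine h.trans (Finset.card_le_card fun r hr => ?_)
  rw [Finset.mem_filter] at hr ⊢
  refine ⟨hr.1, ?_⟩
  rw [rv_fl, hr.2]

theorem norm6 [Fact p.Prime] {u : ZMod p} (hu : u ^ 2 = u - 1) {a b : ℤ} (h : (a : ZMod p) + u * (b : ZMod p) = 0) :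
    ((a ^ 2 + a * b + b ^ 2 : ℤ) : ZMod p) = 0 := by
  push_cast
  linear_combination (((a : ZMod p) + b) - u * b) * h + (b : ZMod p) ^ 2 * hu

theorem norm4 [Fact p.Prime] {u : ZMod p} (hu : u ^ 2 = -1) {a b : ℤ} (h : (a : ZMod p) + u * (b : ZMod p) = 0) :
    ((a ^ 2 + b ^ 2 : ℤ) : ZMod p) = 0 := by
  push_cast
  linear_combination ((a : ZMod p) - u * b) * h + (b : ZMod p) ^ 2 * hu

end pair

end Cfsg.Agent.H994.KE
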