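import Cfsg.Agent.H994.KE.EData

/-!
# `E₈(q)`, `q` of order 3, 4, 6 modulo `p` (S4822, KE5; helper994): the multiplicities of the root values
-/

set_option autoImplicit false
set_option maxRecDepth 100000
set_option maxHeartbeats 8000000

namespace Cfsg.Agent.H994.KE.E8

open Cfsg Cfsg.Lie Cfsg.Lie.ChevalleyDatum
open Cfsg.Agent.ChevalleyStructure.CoxeterGeomTypes Cfsg.Agent.Nodes.RGDChev Cfsg.Agent.H129.WData
  Cfsg.Agent.H129.TorusChar Cfsg.Agent.Tits.Roots Cfsg.Agent.Nodes.Reps Cfsg.Agent.Nodes Cfsg.Agent.H210.EL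

/-- the number of the roots with a given pair -/
def cnt (V U : Fin 8 → ℤ) (a b : ℤ) : ℕ := (Finset.univ.filter fun r : Fin chevE8.nroots => pr chevE8 8 V U r = (a, b)).card

theorem n1 : cnt V1 U1 0 0 = 72 := by decide +kernel
theorem m1 : cnt V1 U1 1 0 = 27 := by decide +kernel
theorem n2 : cnt V2 U2 0 0 = 30 := by decide +kernel
theorem m2 : cnt V2 U2 1 0 = 24 := by decide +kernel
theorem n4 : cnt V4 U4 0 0 = 60 := by decide +kernel
theorem m4 : cnt V4 U4 1 0 = 32 := by decide +kernel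

/-- the norms of the root values -/
theorem norm2 : ∀ r : Fin chevE8.nroots, (pr chevE8 8 V2 U2 r = (0, 0)) ∨
    (1 ≤ (pr chevE8 8 V2 U2 r).1 ^ 2 + (pr chevE8 8 V2 U2 r).1 * (pr chevE8 8 V2 U2 r).2 + (pr chevE8 8 V2 U2 r).2 ^ 2 ∧
    (pr chevE8 8 V2 U2 r).1 ^ 2 + (pr chevE8 8 V2 U2 r).1 * (pr chevE8 8 V2 U2 r).2 + (pr chevE8 8 V2 U2 r).2 ^ 2 ≤ 4) := by
  decide +kernel

end Cfsg.Agent.H994.KE.E8
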