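import Cfsg.Agent.H994.KE.EMain
import Cfsg.Agent.H994.KE.ECnt

/-!
# `E₈(q)`, `q` of order 3, 4, 6 modulo `p` (S4822, KE5; helper994)

`kB_E8_346` : `p + 3 ≤ 2 k(B₀)`.
-/

set_option autoImplicit false
set_option linter.unusedSectionVars false
set_option maxRecDepth 10000

namespace Cfsg.Agent.H994.KE

open CoxeterSystem Cfsg Cfsg.Lie Cfsg.Lie.ChevalleyDatum Subgroup
open Cfsg.Agent.ChevalleyStructure Cfsg.Agent.ChevalleyStructure.Elts Cfsg.Agent.ChevalleyStructure.CoxeterGeom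
  Cfsg.Agent.ChevalleyStructure.CoxeterGeomTypes Cfsg.Agent.ChevalleyStructure.NPerm
open Cfsg.Agent.Tits.Roots Cfsg.Agent.Tits.Core Cfsg.Agent.Nodes Cfsg.Agent.Nodes.Reps Cfsg.Agent.Nodes.BNOf
  Cfsg.Agent.Nodes.RGDChev Cfsg.Agent.Nodes.Bruhat
open Cfsg.Agent.H129.TorusChar Cfsg.Agent.H129.WData Cfsg.Agent.H210.EL Cfsg.Agent.H440.TD4
open Cfsg.Agent.H508.KB

universe u v

section sq

variable {D : ChevalleyDatum} {l : ℕ} {M : CoxeterMatrix (Fin l)} (hp : IsType D l M)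

/-- squares of elements of the Weyl group -/
theorem mem_Lam_sq {p Q : ℕ} {w : M.Group} {c : Fin l → ZMod p} {u : ZMod p} (hu : u ^ 2 = (Q : ZMod p))
    (h : ∀ x, lam c (rep M.toCoxeterSystem hp.isCartan w x) = u * lam c x) :
    c ∈ Lam hp p Q (AddEquiv.refl (Fin l → ℤ)) (w * w) := fun x => by
  rw [rep_mul_apply]
  show lam c (rep M.toCoxeterSystem hp.isCartan w (rep M.toCoxeterSystem hp.isCartan w x)) = _
  rw [h, h, ← hu]
  ring

theorem comm_sq {w v : M.Group}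
    (h : ∀ x, rep M.toCoxeterSystem hp.isCartan v (rep M.toCoxeterSystem hp.isCartan w x) =
      rep M.toCoxeterSystem hp.isCartan w (rep M.toCoxeterSystem hp.isCartan v x)) (x : Fin l → ℤ) :
    rep M.toCoxeterSystem hp.isCartan v (rep M.toCoxeterSystem hp.isCartan (w * w) x) =
      rep M.toCoxeterSystem hp.isCartan (w * w) (rep M.toCoxeterSystem hp.isCartan v x) := by
  rw [rep_mul_apply, rep_mul_apply, h, h]

end sq

namespace E8

theorem kB_E8_346 {p : ℕ} [hpp : Fact p.Prime] {Mx : Ideal AlgInt} (hM : IsPModular p Mx) {F : Type u} [Field F]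
    [Fintype F] (hp5 : 5 < p) (hpF : (p : F) ≠ 0)
    (hord : orderOf (Fintype.card F : ZMod p) = 3 ∨ orderOf (Fintype.card F : ZMod p) = 4 ∨
      orderOf (Fintype.card F : ZMod p) = 6) : p + 3 ≤ 2 * kB Mx ↥(chevE8.group F) := by
  have hp : IsType chevE8 8 CoxeterMatrix.E₈ := by simp [IsType, typeList]
  rcases hord with hord | hord | hord
  · -- order 3
    obtain ⟨hu, hq⟩ := sq_of_order3 hord
    have hq0 : (Fintype.card F : ZMod p) ≠ 0 := by
      intro h
      rw [h] at hord hu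
      have h1 := pow_orderOf_eq_one (0 : ZMod p)
      rw [hord, zero_pow (by norm_num)] at h1
      exact zero_ne_one h1
    refine core6 hp hM hp5 hpF hu (w := wd CoxeterMatrix.E₈ cw6 * wd CoxeterMatrix.E₈ cw6)
      (fun c hc => mem_Lam_sq hp hq hc) (comm_sq hp (rep_comm hp hA cw6_ok cv6_ok comm6)) ?_ n1.ge m1.ge n2 m2.ge norm2
    intro c hc v
    rw [neg_mul, mu_neg hp, pow_two, mul_assoc, mu_q hc hq0, mu_q hc hq0]
  · -- order 4
    exact core4 hp hM hp5 hpF hord (w := wd CoxeterMatrix.E₈ cw4) (fun c hc => mem_Lam hp hc)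
      (rep_comm hp hA cw4_ok cv4_ok comm4) n4.ge m4.ge
  · -- order 6
    have hu := sq_of_order6 hord
    exact core6 hp hM hp5 hpF hu (w := wd CoxeterMatrix.E₈ cw6)
      (fun c hc => mem_Lam hp hc) (rep_comm hp hA cw6_ok cv6_ok comm6) (fun c hc v => mu_q hc (ne_zero_of6 hu) v)
      n1.ge m1.ge n2 m2.ge norm2

end E8

end Cfsg.Agent.H994.KE
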