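import Cfsg.Agent.H994.KE.Base
import Cfsg.Agent.H296.KB.Rank

/-!
# Lines of a torus model and the principal block (S4822, KE5; helper994)

* `two_le_rank_of_eig` : `m y m⁻¹ = y ^ k` with `y` of order `p` and `k ≠ 1` modulo `p` gives `2 ≤ l(B₀)`;
* `kB_two` : two lines;
* `Model.fus_bound`, `Model.rank` : the fusion of an element of the torus model, its centralizer;
* `kB_model` : the assembly.
-/

set_option autoImplicit false
set_option linter.unusedSectionVars false

namespace Cfsg.Agent.H994.KE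

open CoxeterSystem Cfsg Cfsg.Lie Cfsg.Lie.ChevalleyDatum Subgroup
open Cfsg.Agent.ChevalleyStructure Cfsg.Agent.ChevalleyStructure.Elts Cfsg.Agent.ChevalleyStructure.CoxeterGeom
  Cfsg.Agent.ChevalleyStructure.CoxeterGeomTypes Cfsg.Agent.ChevalleyStructure.NPerm
open Cfsg.Agent.Tits.Roots Cfsg.Agent.Tits.Core Cfsg.Agent.Nodes Cfsg.Agent.Nodes.Reps Cfsg.Agent.Nodes.BNOf
  Cfsg.Agent.Nodes.RGDChev Cfsg.Agent.Nodes.Bruhat
open Cfsg.Agent.H129.TorusChar Cfsg.Agent.H129.WData Cfsg.Agent.H210.EL Cfsg.Agent.H440.TD4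
open Cfsg.Agent.H508.KB

universe u v

section group

variable {p : ℕ} [hpp : Fact p.Prime] {Mx : Ideal AlgInt}

/-- conjugation by powers -/
theorem conj_pow_pow {C : Type*} [Group C] {m y : C} {k : ℕ} (h : m * y * m⁻¹ = y ^ k) (n : ℕ) :
    m ^ n * y * (m ^ n)⁻¹ = y ^ (k ^ n) := by
  induction n with
  | zero => rw [pow_zero, pow_zero, one_mul, inv_one, mul_one, pow_one]
  | succ n ih =>
    calc m ^ (n + 1) * y * (m ^ (n + 1))⁻¹ = m * (m ^ n * y * (m ^ n)⁻¹) * m⁻¹ := by rw [pow_succ']; group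
      _ = (m * y * m⁻¹) ^ (k ^ n) := by rw [ih, conj_pow]
      _ = y ^ (k ^ (n + 1)) := by rw [h, ← pow_mul, pow_succ']

theorem two_le_rank_of_eig {C : Type u} [Group C] [Finite C] (hM : IsPModular p Mx) {m y : C} (hy : orderOf y = p)
    {k : ℕ} (h : m * y * m⁻¹ = y ^ k) (hk : (k : ZMod p) ≠ 1) : 2 ≤ blockRank p (principalBlock Mx C) := by
  have hp : p.Prime := hpp.out
  obtain ⟨a, b, hb, hab⟩ : ∃ a b : ℕ, ¬ p ∣ b ∧ orderOf m = p ^ a * b :=
    ⟨(orderOf m).factorization p, orderOf m / p ^ (orderOf m).factorization p,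
      Nat.not_dvd_ordCompl hp (orderOf_pos m).ne', (Nat.ordProj_mul_ordCompl_eq_self _ _).symm⟩
  have h1 : orderOf (m ^ p ^ a) = b := by
    rw [orderOf_pow, hab, Nat.gcd_eq_right (Dvd.intro _ rfl), Nat.mul_div_cancel_left _ (pow_pos hp.pos _)]
  have h2 := conj_pow_pow h (p ^ a)
  have hk' : ((k ^ p ^ a : ℕ) : ZMod p) = k := by
    rw [Nat.cast_pow]
    exact ZMod.pow_card_pow _
  have hyp : y ^ p = 1 := by rw [← hy]; exact pow_orderOf_eq_one y
  have h3 : y ^ (k ^ p ^ a) = y ^ k := by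
    rw [pow_eq_pow_iff_modEq, hy]
    exact (ZMod.natCast_eq_natCast_iff _ _ _).1 hk'
  rw [h3] at h2
  refine Cfsg.Agent.H296.KB.two_le_rank hM (zpowers y) (IsPGroup.of_card (n := 1) (by rw [Nat.card_zpowers, hy, pow_one])) (m ^ p ^ a)
    (by rw [h1]; exact hb) ?_ y (mem_zpowers y) ?_
  · rintro _ ⟨j, rfl⟩
    show m ^ p ^ a * y ^ j * (m ^ p ^ a)⁻¹ ∈ zpowers y
    rw [← conj_zpow, h2]
    exact zpow_mem (pow_mem (mem_zpowers y) _) _
  · intro h4
    apply hk
    have h5 : y ^ k = y ^ 1 := by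
      rw [← h2, h4, mul_inv_cancel_right, pow_one]
    rw [pow_eq_pow_iff_modEq, hy] at h5
    have h6 := (ZMod.natCast_eq_natCast_iff _ _ _).2 h5
    rw [h6, Nat.cast_one]

/-- representatives of the classes of the powers of `x` -/
theorem exists_reps {S : Type u} [Group S] [Finite S] {x : S} (hx : orderOf x = p) {e : ℕ} (he : 0 < e)
    (hfus : ∀ (g : S) (i : ℕ), g * x * g⁻¹ = x ^ i → (i : ZMod p) ^ e = 1) :
    ∃ R : Finset S, (∀ y ∈ R, ∃ a : ℕ, (a : ZMod p) ≠ 0 ∧ y = x ^ a) ∧ (∀ y ∈ R, ∀ z ∈ R, IsConj y z → y = z) ∧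
      (p - 1) / e ≤ R.card := by
  classical
  have hp : p.Prime := hpp.out
  have hxp : x ^ p = 1 := by rw [← hx]; exact pow_orderOf_eq_one x
  let A : Finset (ZMod p) := Finset.univ.erase 0
  let F : ZMod p → ConjClasses S := fun a => ConjClasses.mk (x ^ a.val)
  let T : Finset (ConjClasses S) := A.image F
  have hsec : ∀ C : ConjClasses S, ∃ y : S, C ∈ T → (∃ a : ℕ, (a : ZMod p) ≠ 0 ∧ y = x ^ a) ∧ ConjClasses.mk y = C := by
    intro C
    by_cases hC : C ∈ T
    · obtain ⟨a, ha, rfl⟩ := Finset.mem_image.1 hC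
      refine ⟨x ^ a.val, fun _ => ⟨⟨a.val, ?_, rfl⟩, rfl⟩⟩
      rw [ZMod.natCast_zmod_val]
      exact (Finset.mem_erase.1 ha).1
    · exact ⟨1, fun h => absurd h hC⟩
  choose s hs using hsec
  have hcard : (p - 1) / e ≤ T.card := by
    rw [Nat.div_le_iff_le_mul_add_pred he]
    have h1 : A.card ≤ T.card * e := by
      rw [mul_comm]
      refine Finset.card_le_mul_card_image (f := F) A e fun C hC => ?_
      obtain ⟨a, ha, rfl⟩ := Finset.mem_image.1 hC
      have ha0 : a ≠ 0 := (Finset.mem_erase.1 ha).1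
      -- the fibre
      have h2 : (A.filter fun b => F b = F a).card ≤ (Polynomial.nthRootsFinset e (1 : ZMod p)).card := by
        refine Finset.card_le_card_of_injOn (fun b => a⁻¹ * b) ?_ ?_
        · intro b hb
          rw [Finset.mem_coe, Finset.mem_filter] at hb
          rw [Finset.mem_coe, Polynomial.mem_nthRootsFinset he]
          obtain ⟨g, hg⟩ := isConj_iff.1 (ConjClasses.mk_eq_mk_iff_isConj.1 hb.2.symm)
          have h3 : g * x * g⁻¹ = x ^ ((a⁻¹).val * b.val) := by
            have h4 : x = (x ^ a.val) ^ (a⁻¹).val := by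
              rw [← pow_mul]
              conv_lhs => rw [← pow_one x]
              rw [pow_eq_pow_iff_modEq, hx, ← ZMod.natCast_eq_natCast_iff, Nat.cast_mul, ZMod.natCast_zmod_val,
                ZMod.natCast_zmod_val, mul_inv_cancel₀ ha0, Nat.cast_one]
            conv_lhs => rw [h4]
            rw [← conj_pow, hg, ← pow_mul, mul_comm]
          have h5 := hfus g _ h3
          rwa [Nat.cast_mul, ZMod.natCast_zmod_val, ZMod.natCast_zmod_val] at h5
        · intro b _ b' _ h
          exact mul_left_cancel₀ (inv_ne_zero ha0) h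
      refine h2.trans ?_
      calc (Polynomial.nthRootsFinset e (1 : ZMod p)).card ≤ Multiset.card (Polynomial.nthRoots e (1 : ZMod p)) := by
            rw [Polynomial.nthRootsFinset_def]
            exact Multiset.toFinset_card_le _
        _ ≤ e := Polynomial.card_nthRoots _ _
    have h2 : A.card = p - 1 := by
      rw [Finset.card_erase_of_mem (Finset.mem_univ _), Finset.card_univ, ZMod.card]
    rw [h2] at h1
    rw [mul_comm e]
    omega
  have hinj : Set.InjOn s T := by
    intro C hC C' hC' h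
    rw [← (hs C hC).2, ← (hs C' hC').2, h]
  refine ⟨T.image s, ?_, ?_, ?_⟩
  · intro y hy
    obtain ⟨C, hC, rfl⟩ := Finset.mem_image.1 hy
    exact (hs C hC).1
  · intro y hy z hz hyz
    obtain ⟨C, hC, rfl⟩ := Finset.mem_image.1 hy
    obtain ⟨C', hC', rfl⟩ := Finset.mem_image.1 hz
    have h1 := ConjClasses.mk_eq_mk_iff_isConj.2 hyz
    rw [(hs C hC).2, (hs C' hC').2] at h1
    rw [h1]
  · rw [Finset.card_image_of_injOn hinj]
    exact hcard

theorem centralizer_pow {S : Type u} [Group S] {x : S} (hx : orderOf x = p) {a : ℕ} (ha : (a : ZMod p) ≠ 0) :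
    centralizer ({x ^ a} : Set S) = centralizer ({x} : Set S) := by
  ext g
  rw [mem_centralizer_singleton_iff, mem_centralizer_singleton_iff]
  constructor
  · intro h
    have h4 : x = (x ^ a) ^ ((a : ZMod p)⁻¹).val := by
      rw [← pow_mul]
      conv_lhs => rw [← pow_one x]
      rw [pow_eq_pow_iff_modEq, hx, ← ZMod.natCast_eq_natCast_iff, Nat.cast_mul, ZMod.natCast_zmod_val,
        mul_inv_cancel₀ ha, Nat.cast_one]
    have h5 : Commute g (x ^ a) := h
    have h6 := h5.pow_right ((a : ZMod p)⁻¹).val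
    rw [← h4] at h6
    exact h6
  · intro h
    exact (show Commute g x from h).pow_right a

/-- **two lines** -/
theorem kB_two {S : Type u} [Group S] [Finite S] (hM : IsPModular p Mx) {x x' : S} (hx : orderOf x = p)
    (hx' : orderOf x' = p) {e e' : ℕ} (he : 0 < e) (he' : 0 < e')
    (hfus : ∀ (g : S) (i : ℕ), g * x * g⁻¹ = x ^ i → (i : ZMod p) ^ e = 1)
    (hfus' : ∀ (g : S) (i : ℕ), g * x' * g⁻¹ = x' ^ i → (i : ZMod p) ^ e' = 1)
    (hne : ∀ (g : S) (i : ℕ), g * x * g⁻¹ ≠ x' ^ i) {b b' : ℕ}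
    (hb : b ≤ blockRank p (principalBlock Mx ↥(centralizer ({x} : Set S))))
    (hb' : b' ≤ blockRank p (principalBlock Mx ↥(centralizer ({x'} : Set S)))) :
    (p - 1) / e * b + (p - 1) / e' * b' + blockRank p (principalBlock Mx S) ≤ kB Mx S := by
  classical
  obtain ⟨R, hR1, hR2, hR3⟩ := exists_reps hx he hfus
  obtain ⟨R', hR1', hR2', hR3'⟩ := exists_reps hx' he' hfus'
  have hxp : x ^ p = 1 := by rw [← hx]; exact pow_orderOf_eq_one x
  have hxp' : x' ^ p = 1 := by rw [← hx']; exact pow_orderOf_eq_one x'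
  have h1R : ∀ {x : S} (_ : orderOf x = p) {R : Finset S} (_ : ∀ y ∈ R, ∃ a : ℕ, (a : ZMod p) ≠ 0 ∧ y = x ^ a),
      (1 : S) ∉ R := by
    intro x hx R hR h
    obtain ⟨a, ha, hax⟩ := hR 1 h
    apply ha
    rw [ZMod.natCast_eq_zero_iff, ← hx]
    exact orderOf_dvd_of_pow_eq_one hax.symm
  have hRR : ∀ y ∈ R, ∀ z ∈ R', ¬ IsConj y z := by
    intro y hy z hz h
    obtain ⟨a, ha, rfl⟩ := hR1 y hy
    obtain ⟨c, hc, rfl⟩ := hR1' z hz
    obtain ⟨g, hg⟩ := isConj_iff.1 h
    refine hne g (c * ((a : ZMod p)⁻¹).val) ?_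
    have h4 : x = (x ^ a) ^ ((a : ZMod p)⁻¹).val := by
      rw [← pow_mul]
      conv_lhs => rw [← pow_one x]
      rw [pow_eq_pow_iff_modEq, hx, ← ZMod.natCast_eq_natCast_iff, Nat.cast_mul, ZMod.natCast_zmod_val,
        mul_inv_cancel₀ ha, Nat.cast_one]
    conv_lhs => rw [h4]
    rw [← conj_pow, hg, ← pow_mul]
  have key := Cfsg.Agent.H296.KB.sum_le_kB (p := p) hM (insert 1 (R ∪ R')) ?_ ?_
  · rw [Finset.sum_insert, Finset.sum_union] at key
    · have h3 : blockRank p (principalBlock Mx ↥(Subgroup.centralizer ({(1 : S)} : Set S))) =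
          blockRank p (principalBlock Mx S) := by
        rw [← Cfsg.Agent.H634.Cols.finrank_secMap_principal hM (x := (1 : S)) ⟨0, by rw [orderOf_one, pow_zero]⟩,
          Cfsg.Agent.H634.Cols.finrank_secMap_one]
      have h4 : R.card * b ≤ ∑ y ∈ R, blockRank p (principalBlock Mx ↥(centralizer ({y} : Set S))) := by
        rw [← smul_eq_mul]
        refine Finset.card_nsmul_le_sum _ _ _ fun y hy => ?_
        obtain ⟨a, ha, rfl⟩ := hR1 y hy
        rw [centralizer_pow hx ha]
        exact hb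
      have h5 : R'.card * b' ≤ ∑ y ∈ R', blockRank p (principalBlock Mx ↥(centralizer ({y} : Set S))) := by
        rw [← smul_eq_mul]
        refine Finset.card_nsmul_le_sum _ _ _ fun y hy => ?_
        obtain ⟨a, ha, rfl⟩ := hR1' y hy
        rw [centralizer_pow hx' ha]
        exact hb'
      have h6 := Nat.mul_le_mul_right b hR3
      have h7 := Nat.mul_le_mul_right b' hR3'
      rw [h3] at key
      omega
    · rw [Finset.disjoint_left]
      intro y hy hy'
      exact hRR y hy y hy' (IsConj.refl y)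
    · rw [Finset.mem_union, not_or]
      exact ⟨h1R hx hR1, h1R hx' hR1'⟩
  · intro y hy
    rcases Finset.mem_insert.1 hy with rfl | hy
    · exact ⟨0, by rw [orderOf_one, pow_zero]⟩
    · rcases Finset.mem_union.1 hy with hy | hy
      · obtain ⟨a, ha, rfl⟩ := hR1 y hy
        refine ⟨1, ?_⟩
        rw [pow_one, Nat.Coprime.orderOf_pow, hx]
        rw [hx]
        exact ((Nat.Prime.coprime_iff_not_dvd hpp.out).2 fun h => ha ((ZMod.natCast_eq_zero_iff _ _).2 h))
      · obtain ⟨a, ha, rfl⟩ := hR1' y hy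
        refine ⟨1, ?_⟩
        rw [pow_one, Nat.Coprime.orderOf_pow, hx']
        rw [hx']
        exact ((Nat.Prime.coprime_iff_not_dvd hpp.out).2 fun h => ha ((ZMod.natCast_eq_zero_iff _ _).2 h))
  · intro y hy z hz hyz
    rcases Finset.mem_insert.1 hy with rfl | hy
    · exact (isConj_one_right.1 hyz).symm
    · rcases Finset.mem_insert.1 hz with rfl | hz
      · exact isConj_one_left.1 hyz
      · rcases Finset.mem_union.1 hy with hy | hy <;> rcases Finset.mem_union.1 hz with hz | hz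
        · exact hR2 y hy z hz hyz
        · exact (hRR y hy z hz hyz).elim
        · exact (hRR z hz y hy hyz.symm).elim
        · exact hR2' y hy z hz hyz

end group

section model

variable {D : ChevalleyDatum} {l : ℕ} {M : CoxeterMatrix (Fin l)} {hp : IsType D l M} {p : ℕ} [hpp : Fact p.Prime]
  {Q : ℕ} {g : (Fin l → ℤ) ≃+ (Fin l → ℤ)} {w : M.Group} {G : Type u} [Group G] {X : (Fin l → ZMod p) → G}
  (H : Model hp p Q g w X)

theorem smul_mem {c : Fin l → ZMod p} (hc : c ∈ Lam hp p Q g w) (i : ZMod p) : i • c ∈ Lam hp p Q g w := by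
  intro x
  rw [lam_smul', lam_smul', hc x]
  ring

include H in
theorem X_pow {c : Fin l → ZMod p} (hc : c ∈ Lam hp p Q g w) (k : ℕ) : X c ^ k = X ((k : ZMod p) • c) := by
  induction k with
  | zero =>
    have h0 : (0 : Fin l → ZMod p) ∈ Lam hp p Q g w := by
      have := smul_mem hc (0 : ZMod p)
      rwa [zero_smul] at this
    have h1 := H.add 0 h0 0 h0
    rw [add_zero] at h1
    rw [pow_zero, Nat.cast_zero, zero_smul]
    exact (mul_eq_left.1 h1.symm).symm
  | succ k ih =>
    rw [pow_succ, ih, ← H.add _ (smul_mem hc _) _ hc, Nat.cast_succ, add_smul, one_smul]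

include H in
theorem orderOf_X {c : Fin l → ZMod p} (hc : c ∈ Lam hp p Q g w) (h0 : c ≠ 0) : orderOf (X c) = p :=
  orderOf_eq_prime (H.pow c hc) fun h => h0 (H.inj c hc h)

include H in
theorem comm_X {c c' : Fin l → ZMod p} (hc : c ∈ Lam hp p Q g w) (hc' : c' ∈ Lam hp p Q g w) :
    X c * X c' = X c' * X c := by
  rw [← H.add c hc c' hc', ← H.add c' hc' c hc, add_comm]

include H in
/-- the multiplicities of the root values are invariant -/
theorem mu_of_conj {c c' : Fin l → ZMod p} (hc : c ∈ Lam hp p Q g w) (hc' : c' ∈ Lam hp p Q g w) {h : G}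
    (hh : h * X c * h⁻¹ = X c') (v : ZMod p) : mu D l c v = mu D l c' v := by
  obtain ⟨w', hw'⟩ := H.fus c hc c' hc' h hh
  exact mu_eq hp hw' v

theorem mu_zero_smul (c : Fin l → ZMod p) {i : ZMod p} (hi : i ≠ 0) : mu D l (i • c) 0 = mu D l c 0 := by
  have := mu_smul (D := D) c hi 0
  rwa [mul_zero] at this

theorem mu_neg (hp : IsType D l M) (c : Fin l → ZMod p) (v : ZMod p) : mu D l c (-v) = mu D l c v := by
  classical
  have h1 : ∀ r : Fin D.nroots, ∃ s : Fin D.nroots, vec D l s = -vec D l r := by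
    intro r
    obtain ⟨s, hs, e⟩ := (isRoot_iff hp M.toCoxeterSystem _).1 (isRoot_vec hp M.toCoxeterSystem r.2).neg
    exact ⟨⟨s, hs⟩, e⟩
  choose f hf using h1
  have hlam : ∀ r, rv D l c (f r) = -rv D l c r := by
    intro r
    unfold rv
    rw [hf]
    have := lam_add c (vec D l r) (-vec D l r)
    rw [add_neg_cancel, lam_zero] at this
    exact (neg_eq_of_add_eq_zero_right this.symm).symm
  have hff : ∀ r, f (f r) = r := fun r => Fin.ext (vec_inj hp (f (f r)).2 r.2 (by rw [hf, hf, neg_neg]))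
  unfold mu
  refine Finset.card_bij (fun r _ => f r) ?_ ?_ ?_
  · intro r hr
    rw [Finset.mem_filter] at hr ⊢
    exact ⟨Finset.mem_univ _, by rw [hlam, hr.2, neg_neg]⟩
  · intro a _ b _ hab
    rw [← hff a, ← hff b, hab]
  · intro s hs
    rw [Finset.mem_filter] at hs
    exact ⟨f s, Finset.mem_filter.2 ⟨Finset.mem_univ _, by rw [hlam, hs.2]⟩, hff s⟩

/-- invariance under the eigenvalue -/
theorem mu_q {c : Fin l → ZMod p} {q : ℕ} {w : M.Group} (hc : c ∈ Lam hp p q (AddEquiv.refl _) w)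
    (hq : (q : ZMod p) ≠ 0) (v : ZMod p) : mu D l c (q * v) = mu D l c v := by
  have h1 : mu D l ((q : ZMod p) • c) (q * v) = mu D l c (q * v) :=
    mu_eq hp (w := w) (fun x => by
      rw [lam_smul']
      exact hc x) _
  rw [← h1, mu_smul _ hq]

include H in
/-- **the fusion of the powers of an element of the torus model** -/
theorem fus_bound {c : Fin l → ZMod p} (hc : c ∈ Lam hp p Q g w) (h0 : c ≠ 0) {u : ZMod p} {e : ℕ} (hu0 : u ≠ 0)
    (hu : orderOf u = e) (hmu : ∀ v, mu D l c (u * v) = mu D l c v) {v0 : ZMod p} (hv0 : v0 ≠ 0) {m z : ℕ}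
    (hm : m ≤ mu D l c v0) (hz : z ≤ mu D l c 0) (hN : D.nroots < z + 2 * e * m) (h : G) (i : ℕ)
    (hh : h * X c * h⁻¹ = X c ^ i) : (i : ZMod p) ^ e = 1 := by
  have hi : (i : ZMod p) ≠ 0 := by
    intro h1
    rw [X_pow H hc, h1, zero_smul] at hh
    have h2 : X c = 1 := by
      have h3 : X (0 : Fin l → ZMod p) = 1 := by
        have := X_pow H hc 0
        rw [pow_zero, Nat.cast_zero, zero_smul] at this
        exact this.symm
      rw [h3] at hh
      exact conj_eq_one_iff.1 hh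
    exact h0 (H.inj c hc h2)
  refine pow_eq_one_of_mult (rv D l c) hi hu0 hu (fun v => ?_) hmu hv0 hm hz hN
  have h1 : mu D l ((i : ZMod p) • c) (i * v) = mu D l c v := mu_smul c hi v
  rw [X_pow H hc] at hh
  rw [← mu_of_conj H hc (smul_mem hc _) hh] at h1
  exact h1

include H in
/-- powers of elements with different numbers of trivial root values are not conjugate -/
theorem not_conj {c c' : Fin l → ZMod p} (hc : c ∈ Lam hp p Q g w) (hc' : c' ∈ Lam hp p Q g w) (h0 : c ≠ 0)
    (hne : mu D l c 0 ≠ mu D l c' 0) (h : G) (i : ℕ) : h * X c * h⁻¹ ≠ X c' ^ i := by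
  intro hh
  have hi : (i : ZMod p) ≠ 0 := by
    intro h1
    have h3 : X (0 : Fin l → ZMod p) = 1 := by
      have := X_pow H hc 0
      rw [pow_zero, Nat.cast_zero, zero_smul] at this
      exact this.symm
    rw [X_pow H hc', h1, zero_smul, h3] at hh
    exact h0 (H.inj c hc (conj_eq_one_iff.1 hh))
  rw [X_pow H hc'] at hh
  apply hne
  rw [mu_of_conj H hc (smul_mem hc' _) hh, mu_zero_smul _ hi]

include H in
/-- **the centralizer** -/
theorem rank_centralizer [Finite G] {Mx : Ideal AlgInt} (hM : IsPModular p Mx) {c y : Fin l → ZMod p}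
    (hc : c ∈ Lam hp p Q g w) (hy : y ∈ Lam hp p Q g w) (hy0 : y ≠ 0) {v : M.Group}
    (hv : ∀ x, rep M.toCoxeterSystem hp.isCartan v (rep M.toCoxeterSystem hp.isCartan w (g x)) =
      rep M.toCoxeterSystem hp.isCartan w (g (rep M.toCoxeterSystem hp.isCartan v x)))
    (hvc : ∀ x, lam c (rep M.toCoxeterSystem hp.isCartan v x) = lam c x) {t : ZMod p} (ht0 : t ≠ 0) (ht : t ≠ 1)
    (hvy : ∀ x, lam y (rep M.toCoxeterSystem hp.isCartan v x) = t * lam y x) :
    2 ≤ blockRank p (principalBlock Mx ↥(centralizer ({X c} : Set G))) := by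
  obtain ⟨m, hm⟩ := H.act v hv
  have h1 : m * X c * m⁻¹ = X c := hm c hc c hc hvc
  have h2 : m * X y * m⁻¹ = X (t⁻¹ • y) := hm y hy _ (smul_mem hy _) fun x => by
    rw [lam_smul', hvy, ← mul_assoc, inv_mul_cancel₀ ht0, one_mul]
  have h3 : m * X y * m⁻¹ = X y ^ (t⁻¹).val := by
    rw [h2, X_pow H hy, ZMod.natCast_zmod_val]
  have hmc : m ∈ centralizer ({X c} : Set G) := by
    rw [mem_centralizer_singleton_iff]
    rw [mul_inv_eq_iff_eq_mul] at h1
    exact h1
  have hyc : X y ∈ centralizer ({X c} : Set G) := by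
    rw [mem_centralizer_singleton_iff]
    exact comm_X H hy hc
  refine two_le_rank_of_eig hM (m := (⟨m, hmc⟩ : ↥(centralizer ({X c} : Set G)))) (y := ⟨X y, hyc⟩)
    (k := (t⁻¹).val) ?_ ?_ ?_
  · rw [← orderOf_X H hy hy0]
    exact (orderOf_injective (centralizer ({X c} : Set G)).subtype Subtype.val_injective ⟨X y, hyc⟩).symm
  · exact Subtype.ext h3
  · rw [ZMod.natCast_zmod_val]
    intro h4
    exact ht (inv_eq_one.1 h4)

end model

end Cfsg.Agent.H994.KE
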